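import Groth.Agent.TauSetLib.Open
import Groth.Agent.NeutralGenLib.Basic
import Groth.Agent.SecNhdLib.ProperNhd
import Groth.Agent.FFDescLib.Closure

/-!
# The set of points of p-primary component class is open when prime-to-p powers are open maps
-/

set_option autoImplicit false
set_option backward.isDefEq.respectTransparency false
set_option maxHeartbeats 400000

noncomputable section

universe u

open CategoryTheory CategoryTheory.Limits MonoidalCategory CartesianMonoidalCategory AlgebraicGeometry Topology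
open TopologicalSpace
open scoped CategoryTheory.MonObj CategoryTheory.GrpObj
open Groth.Agent.NeutralSch

namespace Groth.Agent.RhoSetLib

variable {S : Scheme.{u}} (G : Over S) [GrpObj G]

/-- The `n`-th power on points. -/
def pw (n : ℕ) (x : G.left) : G.left := ((𝟙 G : G ⟶ G) ^ n).left.base x

variable {G}

theorem continuous_pw (n : ℕ) : Continuous (pw G n) := ((𝟙 G : G ⟶ G) ^ n).left.continuous

theorem hom_pw (n : ℕ) (x : G.left) : G.hom (pw G n x) = G.hom x := by
  show G.hom (((𝟙 G : G ⟶ G) ^ n).left x) = _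
  rw [← Scheme.Hom.comp_apply, Over.w]

theorem pw_mul (a b : ℕ) (x : G.left) : pw G (a * b) x = pw G b (pw G a x) := by
  show ((𝟙 G : G ⟶ G) ^ (a * b)).left x = _
  rw [pow_mul]
  exact Groth.Agent.TauSetLib.pow_apply ((𝟙 G : G ⟶ G) ^ a) b x

theorem pw_one (x : G.left) : pw G 1 x = x := by
  show ((𝟙 G : G ⟶ G) ^ 1).left x = x
  rw [pow_one]; rfl

theorem pw_mem (n : ℕ) (x : G.left) (hx : x ∈ SGA3x.neutralSet G) : pw G n x ∈ SGA3x.neutralSet G :=
  Groth.Agent.TauSetLib.pow_mem (𝟙 G) x hx n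

/-- A preconnected part of a fibre meeting the union of the neutral components lies in it. -/
theorem subset_neutralSet {C : Set G.left} (hC : _root_.IsPreconnected C) {z : G.left} (hz : z ∈ C)
    (hzN : z ∈ SGA3x.neutralSet G) (hfib : ∀ w ∈ C, G.hom w = G.hom z) : C ⊆ SGA3x.neutralSet G := by
  intro w hw
  obtain ⟨p, hp⟩ := Set.mem_iUnion.1 hzN
  refine Set.mem_iUnion.2 ⟨p, ?_⟩
  have hzf := connectedComponentIn_subset _ _ hp
  rw [connectedComponentIn_eq hp]
  refine hC.subset_connectedComponentIn hz (fun v hv => ?_) hw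
  rw [Set.mem_preimage, show G.hom.base v = G.hom.base z from hfib v hv]
  exact hzf

variable [IsLocallyNoetherian S] [LocallyOfFiniteType G.hom]

omit [IsLocallyNoetherian S] in
/-- The neutral component of a fibre is open in the fibre. -/
theorem exists_open_inter_fibre (s : S) : ∃ A : Set G.left, IsOpen A ∧ us G s ∈ A ∧
    ∀ z ∈ A, G.hom z = s → z ∈ SGA3x.neutralSet G := by
  have h := SecNhdLib.isOpen_comp_fiber (f := G.hom) (g := us G) (us_fac G) s
  rw [← neutralSet_eq] at h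
  obtain ⟨A, hA, hAeq⟩ := (G.hom.fiberι s).isEmbedding.isInducing.isOpen_iff.1 h
  have hA' : ∀ z ∈ G.hom.base ⁻¹' {s}, (z ∈ A ↔ z ∈ SGA3x.neutralSet G) := fun z hz => by
    obtain ⟨v, rfl⟩ := (G.hom.range_fiberι s).ge hz
    exact Set.ext_iff.1 hAeq v
  have hu : G.hom (us G s) = s := by rw [← Scheme.Hom.comp_apply, us_fac]; rfl
  exact ⟨A, hA, (hA' _ hu).2 (us_mem s), fun z hz hzs => (hA' z hzs).1 hz⟩

omit [IsLocallyNoetherian S] in
/-- An open power map is surjective on the neutral components. -/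
theorem exists_root [IsCommMonObj G] {n : ℕ} (hn : IsOpenMap (pw G n)) {R : G.left} (hR : R ∈ SGA3x.neutralSet G) :
    ∃ R' ∈ SGA3x.neutralSet G, pw G n R' = R := by
  obtain ⟨A, hA, hAu, hAN⟩ := exists_open_inter_fibre (G := G) (G.hom R)
  have hu : pw G n (us G (G.hom R)) = us G (G.hom R) := by
    show ((𝟙 G : G ⟶ G) ^ n).left (η[G].left _) = _
    rw [← Groth.Agent.TauSetLib.pow_apply η[G] n]
    congr 1
    have h1 : (1 : 𝟙_ (Over S) ⟶ G) = η[G] := by
      rw [Hom.one_def, toUnit_unique (toUnit _) (𝟙 _), Category.id_comp]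
    rw [← h1, one_pow, h1]
  obtain ⟨z, hz1, -, hz2, -, hz3⟩ := exists_mul (G := G) hR (hn A hA) ⟨_, hAu, hu⟩
  obtain ⟨w1, hw1A, hw1⟩ := hz1
  obtain ⟨w2, hw2A, hw2⟩ := hz2
  have hμ : G.hom (μ[G].left z) = G.hom ((fst G G).left z) := by
    rw [← Scheme.Hom.comp_apply, Over.w, ← Scheme.Hom.comp_apply, Over.w]
  have hμ' : G.hom (μ[G].left z) = G.hom ((snd G G).left z) := by
    rw [← Scheme.Hom.comp_apply, Over.w, ← Scheme.Hom.comp_apply, Over.w]
  have hw1s : G.hom w1 = G.hom R := by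
    rw [← hom_pw n w1, hw1, ← hμ, hz3]
  have hw2s : G.hom w2 = G.hom R := by
    rw [← hom_pw n w2, hw2, ← hμ', hz3]
  -- a common point over `z`, `w1` and `w2`
  let P : G ⟶ G := (𝟙 G) ^ n
  obtain ⟨y1, hy1a, hy1b⟩ := Scheme.Pullback.exists_preimage_pullback (f := (fst G G).left) (g := P.left) z w1 hw1.symm
  obtain ⟨y2, hy2a, hy2b⟩ := Scheme.Pullback.exists_preimage_pullback
    (f := pullback.fst (fst G G).left P.left ≫ (snd G G).left) (g := P.left) y1 w2
    (by rw [Scheme.Hom.comp_apply, hy1a]; exact hw2.symm)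
  let Q := pullback (pullback.fst (fst G G).left P.left ≫ (snd G G).left) P.left
  let q0 : Q ⟶ (G ⊗ G).left := pullback.fst _ _ ≫ pullback.fst _ _
  let Y : Over S := Over.mk (q0 ≫ (G ⊗ G).hom)
  let c : Y ⟶ G ⊗ G := Over.homMk q0 rfl
  let a : Y ⟶ G := Over.homMk (pullback.fst _ _ ≫ pullback.snd _ _) (by
    show (pullback.fst _ _ ≫ pullback.snd _ _) ≫ G.hom = q0 ≫ (G ⊗ G).hom
    rw [← Over.w P, Category.assoc, ← reassoc_of% (pullback.condition (f := (fst G G).left) (g := P.left)),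
      Over.w (fst G G)]
    simp [q0])
  let b : Y ⟶ G := Over.homMk (pullback.snd _ _) (by
    show pullback.snd _ _ ≫ G.hom = q0 ≫ (G ⊗ G).hom
    rw [← Over.w P, ← reassoc_of% (pullback.condition
      (f := pullback.fst (fst G G).left P.left ≫ (snd G G).left) (g := P.left)), Over.w (snd G G)]
    simp [q0])
  have ha : a ^ n = c ≫ fst G G := by
    rw [show a ^ n = a ≫ P by rw [MonObj.comp_pow, Category.comp_id]]
    ext1
    show (pullback.fst _ _ ≫ pullback.snd _ _) ≫ P.left = q0 ≫ (fst G G).left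
    simp only [q0, Category.assoc, pullback.condition]
  have hb : b ^ n = c ≫ snd G G := by
    rw [show b ^ n = b ≫ P by rw [MonObj.comp_pow, Category.comp_id]]
    ext1
    show pullback.snd _ _ ≫ P.left = q0 ≫ (snd G G).left
    simp only [q0, Category.assoc]
    exact pullback.condition.symm
  have hab : (a * b) ^ n = c ≫ μ[G] := by
    rw [mul_pow, ha, hb, ← MonObj.comp_mul, Hom.mul_def, lift_fst_snd, Category.id_comp]
  have haN : a.left y2 ∈ SGA3x.neutralSet G := by
    show (pullback.fst (pullback.fst (fst G G).left P.left ≫ (snd G G).left) P.left ≫ pullback.snd _ _) y2 ∈ _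
    rw [Scheme.Hom.comp_apply, hy2a, hy1b]
    exact hAN w1 hw1A hw1s
  have hbN : b.left y2 ∈ SGA3x.neutralSet G := by
    show pullback.snd (pullback.fst (fst G G).left P.left ≫ (snd G G).left) P.left y2 ∈ _
    rw [hy2b]
    exact hAN w2 hw2A hw2s
  refine ⟨(a * b).left y2, mul_mem a b y2 haN hbN, ?_⟩
  show ((𝟙 G : G ⟶ G) ^ n).left ((a * b).left y2) = R
  rw [← Groth.Agent.TauSetLib.pow_apply, hab, Over.comp_left, Scheme.Hom.comp_apply, ← hz3]
  congr 1
  show (pullback.fst (pullback.fst (fst G G).left P.left ≫ (snd G G).left) P.left ≫ pullback.fst _ _) y2 = z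
  rw [Scheme.Hom.comp_apply, hy2a, hy1a]

omit [IsLocallyNoetherian S] in
/-- Generalisations lift along open power maps. -/
theorem exists_lift_generization {n : ℕ} [IsLocallyNoetherian G.left] (hn : IsOpenMap (pw G n)) {w z : G.left}
    (h : z ⤳ pw G n w) : ∃ w', w' ⤳ w ∧ pw G n w' = z := by
  obtain ⟨U, hU, hwU, -⟩ := exists_isAffineOpen_mem_and_subset (X := G.left) (x := w) (U := ⊤) trivial
  haveI : IsAffine U.toScheme := hU
  let P : G ⟶ G := (𝟙 G) ^ n
  let f := U.ι ≫ P.left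
  haveI : QuasiSeparated f := by
    haveI : QuasiSeparatedSpace G.left := inferInstance
    exact QuasiSeparated.of_comp f (terminal.from G.left)
  let j := f.fiberι z
  haveI : QuasiCompact j := by
    show QuasiCompact (pullback.fst f (G.left.fromSpecResidueField z))
    haveI : QuasiCompact (G.left.fromSpecResidueField z) :=
      QuasiCompact.of_comp (G.left.fromSpecResidueField z) (terminal.from G.left)
    infer_instance
  have hcl : (⟨w, hwU⟩ : U.toScheme) ∈ closure (Set.range j) := by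
    rw [f.range_fiberι, mem_closure_iff]
    intro O hO hwO
    have hO' : IsOpen (pw G n '' (U.ι '' O)) := hn _ (U.ι.isOpenEmbedding.isOpenMap _ hO)
    obtain ⟨_, ⟨v, hv, rfl⟩, hvz⟩ := h.mem_open hO' ⟨w, ⟨_, hwO, rfl⟩, rfl⟩
    exact ⟨v, hv, by rw [Set.mem_preimage, Scheme.Hom.comp_apply]; exact hvz⟩
  obtain ⟨v, hv⟩ := FFDescLib.exists_specializes_of_mem_closure_range j hcl
  refine ⟨U.ι (j v), hv.map U.ι.continuous, ?_⟩
  have hr : j v ∈ f.base ⁻¹' {z} := f.range_fiberι z ▸ Set.mem_range_self v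
  exact (Scheme.Hom.comp_apply U.ι P.left (j v)).symm.trans hr

omit [IsLocallyNoetherian S] in
theorem mem_of_pow_mem [IsLocallyNoetherian G.left] [IsCommMonObj G] {V : S.Opens} (hV : IsAffineOpen V)
    {n : ℕ} (hn : IsOpenMap (pw G n)) {x y : G.left} (hyV : G.hom y ∈ V) (hxy : x ⤳ y)
    (hy : y ∈ SGA3x.neutralSet G) (hx : pw G n x ∈ SGA3x.neutralSet G) : x ∈ SGA3x.neutralSet G := by
  by_contra hxN
  haveI : IsAffine V.toScheme := hV
  obtain ⟨U₀, hU₀c, hU₀N⟩ := exists_qc_open (G := Red.bc V.ι G)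
  let p := pullback.fst G.hom V.ι
  have hrange : Set.range p = G.hom.base ⁻¹' (V : Set S) := by
    rw [IsOpenImmersion.range_pullbackFst, Scheme.Opens.opensRange_ι]
    rfl
  let U₁ : G.left.Opens := p ''ᵁ U₀
  haveI : CompactSpace U₁.toScheme := isCompact_iff_compactSpace.1 (hU₀c.image p.continuous)
  haveI : IsNoetherian U₁.toScheme := {}
  let D := {q : G.left × G.left // q.1 ⤳ q.2 ∧ q.2 ∈ SGA3x.neutralSet G}
  have hstep : ∀ q : D, ∃ q' : D, pw G n q'.1.1 = q.1.1 ∧ pw G n q'.1.2 = q.1.2 := fun q => by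
    obtain ⟨R', hR', hR⟩ := exists_root hn q.2.2
    obtain ⟨w', hw', hw⟩ := exists_lift_generization hn (z := q.1.1) (w := R') (hR ▸ q.2.1)
    exact ⟨⟨(w', R'), hw', hR'⟩, hw, hR⟩
  choose nx hnx₁ hnx₂ using hstep
  let s : ℕ → D := fun k => nx^[k] ⟨(x, y), hxy, hy⟩
  have hs : ∀ k, pw G (n ^ k) (s k).1.1 = x ∧ pw G (n ^ k) (s k).1.2 = y := fun k => by
    induction k with
    | zero => exact ⟨by rw [pow_zero, pw_one]; rfl, by rw [pow_zero, pw_one]; rfl⟩
    | succ k ih =>
      have e : s (k + 1) = nx (s k) := Function.iterate_succ_apply' nx k _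
      rw [e, pow_succ', pw_mul, pw_mul, hnx₁, hnx₂]
      exact ih
  have hmemU : ∀ k, (s k).1.1 ∈ U₁ := fun k => by
    refine (s k).2.1.mem_open U₁.2 ?_
    have hV' : (s k).1.2 ∈ Set.range p := by
      rw [hrange, Set.mem_preimage]
      show G.hom (s k).1.2 ∈ V
      rw [← hom_pw (n ^ k), (hs k).2]
      exact hyV
    obtain ⟨v, hv⟩ := hV'
    exact ⟨v, hU₀N (by rw [neutralSet_bc]; show p v ∈ SGA3x.neutralSet G; rw [hv]; exact (s k).2.2), hv⟩
  let F : Set U₁.toScheme := U₁.ι ⁻¹' (G.hom.base ⁻¹' {G.hom x})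
  have hmemF : ∀ k, (⟨(s k).1.1, hmemU k⟩ : U₁.toScheme) ∈ F := fun k => by
    show G.hom (s k).1.1 = G.hom x
    rw [← hom_pw (n ^ k), (hs k).1]
  let w : ℕ → F := fun k => ⟨_, hmemF k⟩
  haveI := (TopologicalSpace.NoetherianSpace.finite_irreducibleComponents (α := F)).to_subtype
  obtain ⟨i, j, hij, he⟩ := Finite.exists_ne_map_eq_of_infinite (fun k =>
    (⟨irreducibleComponent (w k), irreducibleComponent_mem_irreducibleComponents _⟩ : irreducibleComponents F))
  wlog hlt : i < j generalizing i j with H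
  · exact H j i hij.symm he.symm (by omega)
  let C : Set G.left := pw G (n ^ j) '' (U₁.ι '' (Subtype.val '' irreducibleComponent (w j)))
  have hC : _root_.IsPreconnected C := (((isIrreducible_irreducibleComponent.isConnected.isPreconnected).image _
    continuous_subtype_val.continuousOn).image _ U₁.ι.continuous.continuousOn).image _ (continuous_pw _).continuousOn
  have hfibC : ∀ v ∈ C, G.hom v = G.hom x := by
    rintro _ ⟨_, ⟨_, ⟨a, -, rfl⟩, rfl⟩, rfl⟩
    rw [hom_pw]
    exact a.2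
  have hiC : pw G (n ^ j) (s i).1.1 ∈ C :=
    ⟨_, ⟨_, ⟨w i, (show irreducibleComponent (w i) = irreducibleComponent (w j) from congrArg Subtype.val he) ▸ mem_irreducibleComponent, rfl⟩, rfl⟩, rfl⟩
  have hxC : x ∈ C := ⟨_, ⟨_, ⟨w j, mem_irreducibleComponent, rfl⟩, rfl⟩, (hs j).1⟩
  have hiN : pw G (n ^ j) (s i).1.1 ∈ SGA3x.neutralSet G := by
    rw [show n ^ j = n ^ i * (n * n ^ (j - i - 1)) by rw [← pow_succ', ← pow_add]; congr 1; omega, pw_mul,
      (hs i).1, pw_mul]
    exact pw_mem _ _ hx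
  exact hxN (subset_neutralSet hC hiC hiN
    (fun v hv => (hfibC v hv).trans (hfibC _ hiC).symm) hxC)

variable (G)

/-- The set of points some `p`-power of which lies in the union of the neutral components. -/
def rhoSet (p : ℕ) : Set G.left := {x | ∃ h : ℕ, pw G (p ^ h) x ∈ SGA3x.neutralSet G}

variable {G}

theorem stableUnderGeneralization_rhoSet [IsCommMonObj G] (p : ℕ) (hp : p = 1 ∨ p.Prime)
    (hopen : ∀ n : ℕ, 0 < n → Nat.Coprime n p → IsOpenMap (pw G n)) :
    StableUnderGeneralization (rhoSet G p) := by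
  intro y x hxy ⟨h, hy⟩
  haveI : IsLocallyNoetherian G.left := LocallyOfFiniteType.isLocallyNoetherian G.hom
  have h1 : pw G (p ^ h) x ⤳ pw G (p ^ h) y := hxy.map (continuous_pw _)
  obtain ⟨m, hm, hmN⟩ := Groth.Agent.TauSetLib.stableUnderGeneralization_tauSet (G := G) h1
    ⟨1, one_pos, by show pw G 1 _ ∈ _; rw [pw_one]; exact hy⟩
  obtain ⟨a, n, hn, hcop, rfl⟩ : ∃ a n : ℕ, 0 < n ∧ Nat.Coprime n p ∧ m = p ^ a * n := by
    rcases hp with rfl | hp
    · exact ⟨0, m, hm, Nat.coprime_one_right m, by simp⟩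
    · obtain ⟨a, n, hn, rfl⟩ := Nat.exists_eq_pow_mul_and_not_dvd hm.ne' p hp.ne_one
      exact ⟨a, n, Nat.pos_of_mul_pos_left hm, ((Nat.Prime.coprime_iff_not_dvd hp).2 hn).symm, rfl⟩
  have hxn : pw G n (pw G (p ^ a) (pw G (p ^ h) x)) ∈ SGA3x.neutralSet G := by rw [← pw_mul]; exact hmN
  obtain ⟨V, hV, hyV, -⟩ := exists_isAffineOpen_mem_and_subset (X := S)
    (x := G.hom (pw G (p ^ a) (pw G (p ^ h) y))) (U := ⊤) trivial
  refine ⟨h + a, ?_⟩
  rw [pow_add, pw_mul]
  exact mem_of_pow_mem hV (hopen n hn hcop) hyV (h1.map (continuous_pw _)) (pw_mem _ _ hy) hxn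

/-- **The `p`-primary component set is open.** -/
theorem isOpen_rhoSet [IsCommMonObj G] (p : ℕ) (hp : p = 1 ∨ p.Prime)
    (hopen : ∀ n : ℕ, 0 < n → Nat.Coprime n p → IsOpenMap (pw G n)) : IsOpen (rhoSet G p) := by
  haveI : IsLocallyNoetherian G.left := LocallyOfFiniteType.isLocallyNoetherian G.hom
  haveI : LocallyOfFinitePresentation G.hom :=
    LocallyOfFinitePresentation.iff_locallyOfFiniteType.2 inferInstance
  haveI : QuasiSeparated G.hom := QuasiSeparated.of_comp G.hom (terminal.from S)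
  rw [isOpen_iff_forall_mem_open]
  intro x hx
  obtain ⟨W, hW, hxW, -⟩ := exists_isAffineOpen_mem_and_subset (X := G.left) (x := x) (U := ⊤) trivial
  haveI : IsAffine (Scheme.Opens.toScheme W) := hW
  haveI : SpectralSpace (Scheme.Opens.toScheme W) := {}
  have hcons : IsOpen[constructibleTopology (Scheme.Opens.toScheme W)] (W.ι ⁻¹' rhoSet G p) := by
    have : W.ι ⁻¹' rhoSet G p = ⋃ (d : ℕ), W.ι ⁻¹' (pw G (p ^ d) ⁻¹' SGA3x.neutralSet G) := by
      ext z; simp [rhoSet]
    rw [this]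
    exact @isOpen_iUnion _ _ (constructibleTopology (Scheme.Opens.toScheme W)) _ fun d =>
      (ProConsLib.isClopen_cons_of_isConstructible
        ((ConsLib.isLocallyConstructible_preimage ((𝟙 G : G ⟶ G) ^ (p ^ d)).left
          isLocallyConstructible_neutralSet).preimage_of_isOpenEmbedding W.ι.isOpenEmbedding).isConstructible).2
  have ho := SpecSubLib.isOpen_of_stableUnderGeneralization hcons
    (fun a b hab ha => stableUnderGeneralization_rhoSet p hp hopen (hab.map W.ι.continuous) ha)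
  exact ⟨W.ι '' (W.ι ⁻¹' rhoSet G p), Set.image_preimage_subset _ _, W.ι.isOpenEmbedding.isOpenMap _ ho,
    ⟨⟨x, hxW⟩, hx, rfl⟩⟩

end Groth.Agent.RhoSetLib
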